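import Mathlib
import Cfsg.Prelude.Def_LocalEven
import Cfsg.Agent.LieClassical.SLTwoUnipotent
set_option linter.all false

/-!
Coordinates for a faithful natural `SL₂(F)`-module inside a group.
-/

set_option autoImplicit false

namespace Cfsg.Agent.H569.NatSL2

open Cfsg Subgroup Matrix
open Cfsg.Agent.LieClassical.SLTwoUnipotent

variable {G : Type*} [Group G]

/-- Coordinates for a natural `SL₂(F)`-module `V` for `L`, such that the subgroup `T` of `L` becomes the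
group of upper unitriangular matrices. -/
structure Coord (F : Type*) [Field F] (V L T : Subgroup G) where
  ρ : L ≃* SpecialLinearGroup (Fin 2) F
  ψ : V → (Fin 2 → F)
  bij : Function.Bijective ψ
  mul : ∀ v w : V, ψ (v * w) = ψ v + ψ w
  le : T ≤ L
  act : ∀ (l : L) (v w : V), (w : G) = l * v * (l : G)⁻¹ →
    ψ w = (ρ l : Matrix (Fin 2) (Fin 2) F).mulVec (ψ v)
  norm : L ≤ normalizer (V : Set G)
  mem : ∀ l : L, (l : G) ∈ T ↔ ρ l ∈ upperUnipSL F

/-- Every faithful natural `SL₂(F)`-module has coordinates adapted to a Sylow `p`-subgroup. -/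
theorem exists_coord [Finite G] {p : ℕ} [Fact p.Prime] {F : Type*} [Field F] [Fintype F] {n : ℕ}
    (hF : Fintype.card F = p ^ n) {V L : Subgroup G} (hnat : IsNaturalSL2Module F V L)
    (hf : L ⊓ centralizer (V : Set G) = ⊥) (S : Sylow p ↥L) {T : Subgroup G}
    (hT : T = ((S : Subgroup ↥L).map L.subtype)) : Nonempty (Coord F V L T) := by
  classical
  rename_i _ hp _ _
  obtain ⟨hn, ρ, ψ, hs, hk, ha⟩ := hnat
  have hinj : Function.Injective ρ := by
    rw [← MonoidHom.ker_eq_bot_iff, hk, eq_bot_iff]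
    intro x hx
    have h1 : (x : G) ∈ L ⊓ centralizer (V : Set G) := ⟨x.2, hx⟩
    rw [hf, mem_bot] at h1
    rw [mem_bot]; ext; exact h1
  have hn0 : n ≠ 0 := by
    rintro rfl
    have := Fintype.one_lt_card (α := F)
    rw [hF, pow_zero] at this
    omega
  have hchar : CharP F p := by
    obtain ⟨q, hq⟩ := CharP.exists F
    have hq' : q.Prime := by
      rcases CharP.char_is_prime_or_zero F q with h | h
      · exact h
      · subst h
        exact absurd hq (by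
          intro h0
          have := CharP.charP_to_charZero F
          exact not_finite F)
    have h1 : q ∣ Fintype.card F := by
      have := (Nat.cast_card_eq_zero F : ((Fintype.card F : ℕ) : F) = 0)
      rwa [CharP.cast_eq_zero_iff F q] at this
    rw [hF] at h1
    have := (Nat.prime_dvd_prime_iff_eq hq' hp.out).mp (hq'.dvd_of_dvd_pow h1)
    rwa [← this]
  let e : L ≃* SpecialLinearGroup (Fin 2) F := MulEquiv.ofBijective ρ ⟨hinj, hs⟩
  have hSP : IsPGroup p ↥((S : Subgroup L).map e.toMonoidHom) := S.isPGroup'.map _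
  have hSmax : ∀ {Q : Subgroup (SpecialLinearGroup (Fin 2) F)}, IsPGroup p Q →
      (S : Subgroup L).map e.toMonoidHom ≤ Q → Q = (S : Subgroup L).map e.toMonoidHom := by
    intro Q hQ hle
    have h1 : IsPGroup p ↥(Q.map e.symm.toMonoidHom) := hQ.map _
    have h2 : (S : Subgroup L) ≤ Q.map e.symm.toMonoidHom := by
      intro s hs'
      exact ⟨e s, hle ⟨s, hs', rfl⟩, e.symm_apply_apply s⟩
    have h3 := S.is_maximal' h1 h2
    apply le_antisymm _ hle
    intro q hq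
    have h4 : e.symm q ∈ (S : Subgroup L) := by
      rw [← h3]; exact ⟨q, hq, rfl⟩
    exact ⟨e.symm q, h4, e.apply_symm_apply q⟩
  let P : Sylow p (SpecialLinearGroup (Fin 2) F) :=
    { toSubgroup := (S : Subgroup L).map e.toMonoidHom
      isPGroup' := hSP
      is_maximal' := hSmax }
  obtain ⟨a, ha'⟩ := exists_smul_upperUnipSylowSL_eq p P
  refine ⟨⟨e.trans (MulAut.conj a⁻¹), fun v =>
    ((a⁻¹ : SpecialLinearGroup (Fin 2) F) : Matrix (Fin 2) (Fin 2) F).mulVec (ψ (Additive.ofMul v)),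
    ?_, ?_, ?_, ?_, hn, ?_⟩⟩
  · constructor
    · intro v w hvw
      have h1 := congrArg (fun z => (a : Matrix (Fin 2) (Fin 2) F).mulVec z) hvw
      simp only [Matrix.mulVec_mulVec] at h1
      rw [← LieClassical.SLTwoUnipotent.coe_mul, mul_inv_cancel] at h1
      simpa using h1
    · intro z
      refine ⟨(ψ.symm ((a : Matrix (Fin 2) (Fin 2) F).mulVec z)).toMul, ?_⟩
      simp only [ofMul_toMul, AddEquiv.apply_symm_apply, Matrix.mulVec_mulVec]
      rw [← LieClassical.SLTwoUnipotent.coe_mul, inv_mul_cancel]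
      simp
  · intro v w
    simp only [ofMul_mul, map_add, Matrix.mulVec_add]
  · rw [hT]
    rintro _ ⟨s, _, rfl⟩
    exact s.2
  · intro l v w hw
    obtain ⟨w', hw', hw''⟩ := ha l v
    have : w = w' := by ext; rw [hw, hw']
    rw [this, hw'']
    have h1 : ((e.trans (MulAut.conj a⁻¹)) l : SpecialLinearGroup (Fin 2) F) = a⁻¹ * ρ l * a := by
      rw [MulEquiv.trans_apply, MulAut.conj_apply, inv_inv]
      rfl
    rw [h1]
    simp only [Matrix.mulVec_mulVec]
    rw [← LieClassical.SLTwoUnipotent.coe_mul, ← LieClassical.SLTwoUnipotent.coe_mul]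
    have h2 : a⁻¹ * ρ l * a * a⁻¹ = a⁻¹ * ρ l := by group
    rw [h2]
  · intro l
    have h1 : ((e.trans (MulAut.conj a⁻¹)) l : SpecialLinearGroup (Fin 2) F) = a⁻¹ * ρ l * a := by
      rw [MulEquiv.trans_apply, MulAut.conj_apply, inv_inv]
      rfl
    rw [h1]
    rw [← mem_smul_upperUnipSylowSL_iff p, ha', hT]
    constructor
    · rintro ⟨s, hs', hsl⟩
      have : s = l := by ext; exact hsl
      subst this
      exact ⟨s, hs', rfl⟩
    · rintro ⟨s, hs', hsl⟩
      have : s = l := hinj hsl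
      subst this
      exact ⟨s, hs', rfl⟩

namespace Coord

variable {F : Type*} [Field F] {V L T : Subgroup G} (c : Coord F V L T)

include c

theorem one : c.ψ 1 = 0 := by
  have := c.mul 1 1
  rw [one_mul] at this
  simpa using this

theorem inv (v : V) : c.ψ v⁻¹ = - c.ψ v := by
  have := c.mul v⁻¹ v
  rw [inv_mul_cancel, c.one] at this
  exact (neg_eq_of_add_eq_zero_left this.symm).symm

theorem conj_mem {l v : G} (hl : l ∈ L) (hv : v ∈ V) : l * v * l⁻¹ ∈ V :=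
  ((mem_normalizer_iff.mp (c.norm hl)) v).mp hv

theorem act' {l v : G} (hl : l ∈ L) (hv : v ∈ V) :
    c.ψ ⟨l * v * l⁻¹, c.conj_mem hl hv⟩ = (c.ρ ⟨l, hl⟩ : Matrix (Fin 2) (Fin 2) F).mulVec (c.ψ ⟨v, hv⟩) :=
  c.act ⟨l, hl⟩ ⟨v, hv⟩ _ rfl

/-- The element of `T` with coordinate `b`. -/
theorem exists_mem (b : F) : ∃ t, ∃ ht : t ∈ T, c.ρ ⟨t, c.le ht⟩ = u b := by
  refine ⟨(c.ρ.symm (u b) : L), ?_, ?_⟩
  · rw [c.mem, MulEquiv.apply_symm_apply]
    exact u_mem_upperUnipSL b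
  · simp

theorem eq_u {t : G} (ht : t ∈ T) : ∃ b : F, c.ρ ⟨t, c.le ht⟩ = u b := by
  have := (c.mem ⟨t, c.le ht⟩).mp ht
  exact ⟨_, eq_u_of_mem_upperUnipSL this⟩

omit c in
theorem u_mulVec (b : F) (z : Fin 2 → F) :
    ((u b : SpecialLinearGroup (Fin 2) F) : Matrix (Fin 2) (Fin 2) F).mulVec z
      = ![z 0 + b * z 1, z 1] := by
  rw [coe_u]
  ext i
  fin_cases i <;> simp [Matrix.mulVec, dotProduct, Fin.sum_univ_two]

theorem commutator_coord {t v : G} (ht : t ∈ T) (hv : v ∈ V) {b : F}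
    (hb : c.ρ ⟨t, c.le ht⟩ = u b) (h : v * t * v⁻¹ * t⁻¹ ∈ V) :
    c.ψ ⟨v * t * v⁻¹ * t⁻¹, h⟩ = ![-(b * c.ψ ⟨v, hv⟩ 1), 0] := by
  have h1 : (⟨v * t * v⁻¹ * t⁻¹, h⟩ : V) = ⟨v, hv⟩ *
      ⟨t * v⁻¹ * t⁻¹, c.conj_mem (c.le ht) (V.inv_mem hv)⟩ := by
    ext; simp [mul_assoc]
  rw [h1, c.mul, c.act' (c.le ht) (V.inv_mem hv), hb, u_mulVec]
  have h2 : c.ψ ⟨v⁻¹, V.inv_mem hv⟩ = - c.ψ ⟨v, hv⟩ := c.inv ⟨v, hv⟩
  rw [h2]
  ext i
  fin_cases i <;> simp

theorem commutator_mem {t v : G} (ht : t ∈ T) (hv : v ∈ V) : v * t * v⁻¹ * t⁻¹ ∈ V := by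
  have := V.mul_mem hv (c.conj_mem (c.le ht) (V.inv_mem hv))
  simpa [mul_assoc] using this

/-- An element of `V` is centralized by `t ∈ T`, `t ≠ 1`, if and only if its second coordinate is zero. -/
theorem comm_iff {t v : G} (ht : t ∈ T) (ht1 : t ≠ 1) (hv : v ∈ V) :
    t * v = v * t ↔ c.ψ ⟨v, hv⟩ 1 = 0 := by
  obtain ⟨b, hb⟩ := c.eq_u ht
  have hb0 : b ≠ 0 := by
    rintro rfl
    rw [u_zero] at hb
    have h1 := c.ρ.injective (hb.trans c.ρ.map_one.symm)
    apply ht1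
    exact congrArg Subtype.val h1
  have h1 := c.commutator_coord ht hv hb (c.commutator_mem ht hv)
  constructor
  · intro h
    have h2 : (⟨v * t * v⁻¹ * t⁻¹, c.commutator_mem ht hv⟩ : V) = 1 := by
      ext
      simp only [Subgroup.coe_one]
      rw [← h]; group
    rw [h2, c.one] at h1
    have h3 := congrFun h1 0
    simp at h3
    rcases h3 with h3 | h3
    · exact absurd h3 hb0
    · exact h3
  · intro h
    rw [h] at h1
    have h2 : c.ψ ⟨v * t * v⁻¹ * t⁻¹, c.commutator_mem ht hv⟩ = c.ψ 1 := by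
      rw [h1, c.one]; ext i; fin_cases i <;> simp
    have h3 := congrArg Subtype.val (c.bij.1 h2)
    simp only [Subgroup.coe_one] at h3
    have h4 : v * t = (v * t * v⁻¹ * t⁻¹) * (t * v) := by group
    rw [h4, h3, one_mul]

theorem exists_ne_one : ∃ t ∈ T, t ≠ 1 := by
  obtain ⟨t, ht, h1⟩ := c.exists_mem (1 : F)
  refine ⟨t, ht, ?_⟩
  rintro rfl
  have h2 : (⟨1, c.le ht⟩ : L) = 1 := rfl
  rw [h2, map_one] at h1
  have h3 := congrArg (fun g : SpecialLinearGroup (Fin 2) F => g 0 1) h1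
  simp [u] at h3

/-- `C_V(T)` is the first coordinate line. -/
theorem mem_fixed {v : G} (hv : v ∈ V) : v ∈ centralizer (T : Set G) ↔ c.ψ ⟨v, hv⟩ 1 = 0 := by
  constructor
  · intro h
    obtain ⟨t, ht, ht1⟩ := c.exists_ne_one
    exact (c.comm_iff ht ht1 hv).mp (mem_centralizer_iff.mp h t ht)
  · intro h
    rw [mem_centralizer_iff]
    intro t ht
    by_cases ht1 : t = 1
    · rw [ht1]; simp
    · exact (c.comm_iff ht ht1 hv).mpr h

theorem fixed_single {t : G} (ht : t ∈ T) (ht1 : t ≠ 1) :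
    V ⊓ centralizer ({t} : Set G) = V ⊓ centralizer (T : Set G) := by
  ext v
  simp only [mem_inf]
  apply and_congr_right
  intro hv
  rw [c.mem_fixed hv, ← c.comm_iff ht ht1 hv, mem_centralizer_singleton_iff]
  exact eq_comm

theorem commutator_le : ⁅V, T⁆ ≤ V ⊓ centralizer (T : Set G) := by
  rw [Subgroup.commutator_le]
  intro v hv t ht
  rw [commutatorElement_def]
  refine ⟨c.commutator_mem ht hv, ?_⟩
  obtain ⟨b, hb⟩ := c.eq_u ht
  change _ ∈ centralizer (T : Set G)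
  rw [c.mem_fixed (c.commutator_mem ht hv), c.commutator_coord ht hv hb]
  simp

/-- The fixed points of `T` are commutators of any vector not fixed with elements of `T`. -/
theorem exists_commutator {v w : G} (hv : v ∈ V) (hv1 : c.ψ ⟨v, hv⟩ 1 ≠ 0) (hw : w ∈ V)
    (hwT : w ∈ centralizer (T : Set G)) : ∃ t ∈ T, w = v * t * v⁻¹ * t⁻¹ := by
  obtain ⟨t, ht, h1⟩ := c.exists_mem (-(c.ψ ⟨w, hw⟩ 0) / c.ψ ⟨v, hv⟩ 1)
  refine ⟨t, ht, ?_⟩
  have h2 := c.commutator_coord ht hv h1 (c.commutator_mem ht hv)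
  have h3 : c.ψ ⟨w, hw⟩ = c.ψ ⟨v * t * v⁻¹ * t⁻¹, c.commutator_mem ht hv⟩ := by
    rw [h2]
    ext i
    fin_cases i
    · simp only [Fin.zero_eta, Fin.isValue, cons_val_zero]
      field_simp
    · simpa using (c.mem_fixed hw).mp hwT
  exact congrArg Subtype.val (c.bij.1 h3)

theorem exists_commutator' {t w : G} (ht : t ∈ T) (ht1 : t ≠ 1) (hw : w ∈ V)
    (hwT : w ∈ centralizer (T : Set G)) : ∃ v ∈ V, w = v * t * v⁻¹ * t⁻¹ := by
  obtain ⟨b, hb⟩ := c.eq_u ht
  have hb0 : b ≠ 0 := by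
    rintro rfl
    rw [u_zero] at hb
    have h1 := c.ρ.injective (hb.trans c.ρ.map_one.symm)
    apply ht1
    exact congrArg Subtype.val h1
  obtain ⟨v, hv⟩ := c.bij.2 ![0, -(c.ψ ⟨w, hw⟩ 0) / b]
  refine ⟨v, v.2, ?_⟩
  have h2 := c.commutator_coord ht v.2 hb (c.commutator_mem ht v.2)
  have h3 : c.ψ ⟨w, hw⟩ = c.ψ ⟨v * t * (v : G)⁻¹ * t⁻¹, c.commutator_mem ht v.2⟩ := by
    rw [h2]
    have hv' : c.ψ ⟨(v : G), v.2⟩ = ![0, -(c.ψ ⟨w, hw⟩ 0) / b] := hv
    rw [hv']
    ext i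
    fin_cases i
    · simp only [Fin.zero_eta, Fin.isValue, cons_val_zero, cons_val_one]
      field_simp
    · simpa using (c.mem_fixed hw).mp hwT
  exact congrArg Subtype.val (c.bij.1 h3)

/-- `|V| = |F|²`. -/
theorem card_V [Finite F] : Nat.card V = Nat.card F ^ 2 := by
  rw [Nat.card_congr (Equiv.ofBijective c.ψ c.bij), Nat.card_fun]
  simp

/-- `|C_V(T)| = |F|`. -/
theorem card_fixed : Nat.card ↥(V ⊓ centralizer (T : Set G)) = Nat.card F := by
  apply Nat.card_congr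
  refine Equiv.ofBijective (fun v => c.ψ ⟨v, v.2.1⟩ 0) ⟨?_, ?_⟩
  · intro v w h
    have hv := (c.mem_fixed v.2.1).mp v.2.2
    have hw := (c.mem_fixed w.2.1).mp w.2.2
    have h1 : c.ψ ⟨v, v.2.1⟩ = c.ψ ⟨w, w.2.1⟩ := by
      ext i
      fin_cases i
      · exact h
      · simpa using hv.trans hw.symm
    have h2 := congrArg Subtype.val (c.bij.1 h1)
    ext; exact h2
  · intro x
    obtain ⟨v, hv⟩ := c.bij.2 ![x, 0]
    have hv' : c.ψ ⟨(v : G), v.2⟩ = ![x, 0] := hv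
    refine ⟨⟨v, v.2, ?_⟩, ?_⟩
    · change _ ∈ centralizer (T : Set G)
      rw [c.mem_fixed v.2, hv']; simp
    · simp only [hv']; simp

end Coord

end Cfsg.Agent.H569.NatSL2
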